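import Mathlib

/-! The residue field of the inertia ring is the separable closure of that of the invariant ring. -/

universe u v w

namespace InertiaSepLib

open Polynomial Pointwise

variable {B : Type u} [CommRing B] {Γ : Type v} [Group Γ] [Finite Γ] [MulSemiringAction Γ B]
  {k : Type w} [Field k] (π : B →+* k) (hπ : Function.Surjective π)

/-- Residues of `H`-invariant elements. -/
def E (H : Subgroup Γ) : Subring k := (FixedPoints.subring B H).map π

omit [Finite Γ] in
lemma mem_E {H : Subgroup Γ} {c : k} :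
    c ∈ E π H ↔ ∃ y, (∀ h ∈ H, h • y = y) ∧ π y = c :=
  ⟨fun ⟨y, hy, h⟩ => ⟨y, fun g hg => hy ⟨g, hg⟩, h⟩, fun ⟨y, hy, h⟩ => ⟨y, fun g => hy g g.2, h⟩⟩

include hπ in
lemma exists_inv {H : Subgroup Γ} {c : k} (hc : c ∈ E π H) : c⁻¹ ∈ E π H := by
  by_cases h0 : c = 0
  · rw [h0, inv_zero]; exact zero_mem _
  obtain ⟨y, hy, rfl⟩ := hc
  have : Algebra.IsInvariant (FixedPoints.subring B H) B H := ⟨fun x hx => ⟨⟨x, hx⟩, rfl⟩⟩
  have := Algebra.IsInvariant.isIntegral (FixedPoints.subring B H) B H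
  have := RingHom.ker_isMaximal_of_surjective π hπ
  have hm := Ideal.isMaximal_comap_of_isIntegral_of_isMaximal (R := FixedPoints.subring B H) (RingHom.ker π)
  obtain ⟨z, i, hi, hz⟩ := hm.exists_inv (x := ⟨y, hy⟩) h0
  refine ⟨(z : B), z.2, ?_⟩
  have := congrArg (fun a : FixedPoints.subring B H => π a) hz
  have hi' : π (i : B) = 0 := hi
  simp [hi'] at this
  exact eq_inv_of_mul_eq_one_left this

/-- The residue subfield of the invariants of `H`. -/
def K (H : Subgroup Γ) : Subfield k :=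
  { E π H with inv_mem' := fun _ hc => exists_inv π hπ hc }

lemma mem_K {H : Subgroup Γ} {c : k} : c ∈ K π hπ H ↔ ∃ y, (∀ h ∈ H, h • y = y) ∧ π y = c :=
  mem_E π

omit [Finite Γ] in
/-- Sums over coset representatives of an `H`-invariant element are `G`-invariant. -/
lemma smul_sum_out {G : Type v} [Group G] [MulSemiringAction G B] (H : Subgroup G)
    [Fintype (G ⧸ H)] (w : B) (hw : ∀ h ∈ H, h • w = w) (g : G) :
    g • ∑ q : G ⧸ H, q.out • w = ∑ q : G ⧸ H, q.out • w := by
  rw [Finset.smul_sum]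
  refine Fintype.sum_equiv (MulAction.toPerm g) _ _ fun q => ?_
  have h1 : ((g • q).out : G ⧸ H) = ((g * q.out : G) : G ⧸ H) := by
    rw [QuotientGroup.out_eq']
    conv_lhs => rw [← QuotientGroup.out_eq' q]
    rfl
  rw [QuotientGroup.eq] at h1
  show g • q.out • w = (g • q).out • w
  conv_rhs => rw [← hw _ h1]
  rw [smul_smul, smul_smul, mul_inv_cancel_left]

variable {P : Ideal B} (hP : RingHom.ker π = P)

omit [Finite Γ] in
include hP in
lemma pi_eq {a b : B} : π a = π b ↔ a - b ∈ P := by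
  rw [← hP, RingHom.mem_ker, map_sub, sub_eq_zero]

include hπ hP in
/-- An invariant of the decomposition group concentrated at `P`. -/
lemma exists_idem : ∃ e : B, (∀ d ∈ MulAction.stabilizer Γ P, d • e = e) ∧ π e = 1 ∧
    ∀ γ : Γ, γ ∉ MulAction.stabilizer Γ P → π (γ • e) = 0 := by
  classical
  have := Fintype.ofFinite Γ
  have hPm : P.IsMaximal := hP ▸ RingHom.ker_isMaximal_of_surjective π hπ
  have : ∀ γ : Γ, ∃ a : B, π a = 1 ∧ (γ ∉ MulAction.stabilizer Γ P → π (γ • a) = 0) := by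
    intro γ
    by_cases hγ : γ ∈ MulAction.stabilizer Γ P
    · exact ⟨1, map_one π, fun h => absurd hγ h⟩
    have hne : γ⁻¹ • P ≠ P := fun h => hγ (by
      simpa using (MulAction.stabilizer Γ P).inv_mem (MulAction.mem_stabilizer_iff.2 h))
    have hQ : (γ⁻¹ • P).IsMaximal := by
      rw [Ideal.pointwise_smul_def]
      exact Ideal.map_isMaximal_of_equiv (MulSemiringAction.toRingEquiv Γ B γ⁻¹)
    obtain ⟨a, ha, b, hb, hab⟩ := Submodule.mem_sup.1
      ((hPm.coprime_of_ne hQ (Ne.symm hne)).symm ▸ Submodule.mem_top (x := (1 : B)))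
    refine ⟨b, ?_, fun _ => ?_⟩
    · have h1 := congrArg π hab
      rw [map_add, RingHom.mem_ker.1 (hP.symm ▸ ha), zero_add, map_one] at h1
      exact h1
    · rw [← RingHom.mem_ker, hP]
      have := Ideal.smul_mem_pointwise_smul γ _ _ hb
      rwa [smul_inv_smul] at this
  choose a ha1 ha0 using this
  let e₀ := ∏ γ : Γ, a γ
  refine ⟨∏ d : MulAction.stabilizer Γ P, d • e₀, fun d hd => ?_, ?_, fun γ hγ => ?_⟩
  · rw [show d • ∏ x : MulAction.stabilizer Γ P, x • e₀ = (⟨d, hd⟩ : MulAction.stabilizer Γ P) •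
      ∏ x : MulAction.stabilizer Γ P, x • e₀ from rfl, Finset.smul_prod']
    exact Fintype.prod_equiv (Equiv.mulLeft ⟨d, hd⟩) _ _ fun x => by simp [mul_smul]
  · rw [map_prod]
    refine Finset.prod_eq_one fun d _ => ?_
    have h1 : π e₀ = 1 := by rw [map_prod]; exact Finset.prod_eq_one fun γ _ => ha1 γ
    rw [← map_one π] at h1 ⊢
    rw [pi_eq π hP] at h1 ⊢
    have := Ideal.smul_mem_pointwise_smul (d : Γ) _ _ h1
    rwa [MulAction.mem_stabilizer_iff.1 d.2, smul_sub, smul_one] at this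
  · rw [Finset.smul_prod', map_prod]
    refine Finset.prod_eq_zero (Finset.mem_univ 1) ?_
    rw [one_smul, Finset.smul_prod', map_prod]
    exact Finset.prod_eq_zero (Finset.mem_univ γ) (ha0 γ hγ)

include hπ hP in
/-- The decomposition ring has the residue field of the invariant ring. -/
lemma mem_K_top_of_stabilizer (w : B) (hw : ∀ d ∈ MulAction.stabilizer Γ P, d • w = w) :
    π w ∈ K π hπ (⊤ : Subgroup Γ) := by
  classical
  have := Fintype.ofFinite (Γ ⧸ MulAction.stabilizer Γ P)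
  obtain ⟨e, he, he1, he0⟩ := exists_idem π hπ hP (Γ := Γ)
  have hwe : ∀ d ∈ MulAction.stabilizer Γ P, d • (w * e) = w * e := fun d hd => by
    rw [smul_mul', hw d hd, he d hd]
  refine (mem_K π hπ).2 ⟨∑ q : Γ ⧸ MulAction.stabilizer Γ P, q.out • (w * e),
    fun g _ => smul_sum_out _ _ hwe g, ?_⟩
  rw [map_sum, Finset.sum_eq_single ((1 : Γ) : Γ ⧸ MulAction.stabilizer Γ P)]
  · have h1 : (((1 : Γ) : Γ ⧸ MulAction.stabilizer Γ P).out)⁻¹ * 1 ∈ MulAction.stabilizer Γ P :=
      QuotientGroup.eq.1 (QuotientGroup.out_eq' _)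
    rw [mul_one, inv_mem_iff] at h1
    rw [hwe _ h1, map_mul, he1, mul_one]
  · intro q _ hq
    rw [smul_mul', map_mul, he0 _ fun h => hq ?_, mul_zero]
    rw [← QuotientGroup.out_eq' q, QuotientGroup.eq]
    simpa using h
  · simp

omit [Finite Γ] in
lemma inertia_le_stabilizer : P.inertia Γ ≤ MulAction.stabilizer Γ P :=
  Ideal.inertia_le_stabilizer P

omit [Finite Γ] in
include hP in
lemma pi_smul_inertia {t : Γ} (ht : t ∈ P.inertia Γ) (x : B) : π (t • x) = π x :=
  (pi_eq π hP).2 (ht x)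

omit [Finite Γ] in
lemma conj_mem_inertia {d t : Γ} (hd : d ∈ MulAction.stabilizer Γ P) (ht : t ∈ P.inertia Γ) :
    d⁻¹ * t * d ∈ P.inertia Γ := fun x => by
  show (d⁻¹ * t * d) • x - x ∈ P
  have := Ideal.smul_mem_pointwise_smul d⁻¹ _ _ (ht (d • x))
  rwa [MulAction.mem_stabilizer_iff.1 ((MulAction.stabilizer Γ P).inv_mem hd), smul_sub,
    inv_smul_smul, smul_smul, smul_smul] at this

omit [Finite Γ] in
lemma smul_inertia_fixed {d : Γ} (hd : d ∈ MulAction.stabilizer Γ P) {u : B}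
    (hu : ∀ t ∈ P.inertia Γ, t • u = u) : ∀ t ∈ P.inertia Γ, t • d • u = d • u := fun t ht => by
  have := hu _ (conj_mem_inertia hd ht)
  rw [mul_assoc, mul_smul, inv_smul_eq_iff] at this
  rw [smul_smul, this]

include hπ hP in
/-- A power of every residue comes from the inertia ring. -/
lemma exists_pow_mem (q : ℕ) [ExpChar k q] :
    ∃ a : ℕ, ∀ x : B, π x ^ q ^ a ∈ K π hπ (P.inertia Γ) := by
  classical
  have := Fintype.ofFinite (P.inertia Γ)
  obtain ⟨a, m, hm, hcard⟩ : ∃ a m : ℕ, (m : k) ≠ 0 ∧ Fintype.card (P.inertia Γ) = q ^ a * m := by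
    rcases ‹ExpChar k q› with _ | ⟨hq⟩
    · exact ⟨0, Fintype.card (P.inertia Γ), Nat.cast_ne_zero.2 (Fintype.card_ne_zero (α := P.inertia Γ)), by simp⟩
    · obtain ⟨a, m, hm, h⟩ := Nat.exists_eq_pow_mul_and_not_dvd (Fintype.card_ne_zero (α := P.inertia Γ)) q hq.ne_one
      exact ⟨a, m, fun h0 => hm ((CharP.cast_eq_zero_iff k q m).1 h0), h⟩
  refine ⟨a, fun x => ?_⟩
  have hm0 : m ≠ 0 := fun h => hm (by rw [h, Nat.cast_zero])
  have hq0 : 0 < q ^ a := pow_pos (expChar_pos k q) a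
  let F := MulSemiringAction.charpoly (P.inertia Γ) x
  have hF : F.map π = (X - C (π x)) ^ (q ^ a * m) := by
    rw [← hcard]
    simp only [F, MulSemiringAction.charpoly, Polynomial.map_prod, Polynomial.map_sub, map_X, map_C]
    rw [Finset.prod_congr rfl fun t (_ : t ∈ Finset.univ) => by
      rw [show t • x = (t : Γ) • x from rfl, pi_smul_inertia π hP t.2], Finset.prod_const]
    rfl
  have hmem : (F.map π).coeff ((m - 1) * q ^ a) ∈ K π hπ (P.inertia Γ) := by
    rw [coeff_map]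
    exact (mem_K π hπ).2 ⟨_, fun t ht => MulSemiringAction.smul_coeff_charpoly x _ (⟨t, ht⟩ : P.inertia Γ), rfl⟩
  have hexp : (X - C (π x)) ^ q ^ a = expand k (q ^ a) (X - C (π x ^ q ^ a)) := by
    rw [sub_pow_expChar_pow, map_sub, expand_X, expand_C, C_pow]
  rw [hF, pow_mul, hexp, ← map_pow, coeff_expand_mul hq0, sub_eq_add_neg, ← C_neg,
    coeff_X_add_C_pow, show m - (m - 1) = 1 by omega, pow_one,
    Nat.choose_symm_of_eq_add (a := m - 1) (b := 1) (by omega), Nat.choose_one_right] at hmem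
  have := mul_mem (neg_mem hmem) (inv_mem (natCast_mem (K π hπ (P.inertia Γ)) m))
  simpa [hm] using this

include hπ hP in
/-- The decomposition group acts faithfully modulo inertia on the residues of the inertia ring. -/
lemma mem_inertia_of_fix {d : Γ} (hd : d ∈ MulAction.stabilizer Γ P)
    (h : ∀ u, (∀ t ∈ P.inertia Γ, t • u = u) → π (d • u) = π u) : d ∈ P.inertia Γ := by
  intro x
  show d • x - x ∈ P
  rw [← pi_eq π hP]
  obtain ⟨q, _⟩ := ExpChar.exists k
  obtain ⟨a, ha⟩ := exists_pow_mem π hπ hP (Γ := Γ) q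
  obtain ⟨u, hu, hux⟩ := (mem_K π hπ).1 (ha x)
  refine iterateFrobenius_inj k q a ?_
  rw [iterateFrobenius_def, iterateFrobenius_def]
  have h1 : x ^ q ^ a - u ∈ P := by rw [← pi_eq π hP, map_pow, hux]
  have h2 := Ideal.smul_mem_pointwise_smul d _ _ h1
  rw [MulAction.mem_stabilizer_iff.1 hd, smul_sub, smul_pow', ← pi_eq π hP, map_pow, h u hu, hux] at h2
  exact h2

include hπ hP in
/-- The fixed residues of the inertia ring. -/
lemma mem_K_top_of_fixed {y : B} (hy : ∀ t ∈ P.inertia Γ, t • y = y)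
    (hfix : ∀ d ∈ MulAction.stabilizer Γ P, π (d • y) = π y) : π y ∈ K π hπ (⊤ : Subgroup Γ) := by
  classical
  let D := MulAction.stabilizer Γ P
  let T : Subgroup D := (P.inertia Γ).subgroupOf D
  have := Fintype.ofFinite (D ⧸ T)
  let M := FixedPoints.subring B (P.inertia Γ)
  let χ : D ⧸ T → (M →* k) := fun q =>
    (π.comp ((MulSemiringAction.toRingHom Γ B (q.out : D).1).comp M.subtype)).toMonoidHom
  have hinj : Function.Injective χ := by
    intro q q' hqq
    rw [← QuotientGroup.out_eq' q, ← QuotientGroup.out_eq' q', QuotientGroup.eq]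
    show (((q.out)⁻¹ * q'.out : D) : Γ) ∈ P.inertia Γ
    refine mem_inertia_of_fix (Γ := Γ) π hπ hP ((q.out)⁻¹ * q'.out : D).2 fun u hu => ?_
    have h := DFunLike.congr_fun hqq ⟨u, fun t => hu t t.2⟩
    change π ((q.out : D).1 • u) = π ((q'.out : D).1 • u) at h
    rw [pi_eq π hP] at h
    have h2 := Ideal.smul_mem_pointwise_smul (((q.out : D)⁻¹ : D) : Γ) _ _ h
    rw [MulAction.mem_stabilizer_iff.1 ((q.out : D)⁻¹).2, smul_sub, Subgroup.coe_inv, inv_smul_smul,
      ← pi_eq π hP, smul_smul] at h2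
    rw [Subgroup.coe_mul, Subgroup.coe_inv]
    exact h2.symm
  obtain ⟨u, hu⟩ : ∃ u : M, ∑ q, χ q u ≠ 0 := by
    by_contra hall
    push Not at hall
    have hli := (linearIndependent_monoidHom M k).comp χ hinj
    have := Fintype.linearIndependent_iff.1 hli (fun _ => 1) (funext fun u => by simpa using hall u)
      ((1 : D) : D ⧸ T)
    exact one_ne_zero this
  have hfixT : ∀ {w : B}, (∀ t ∈ P.inertia Γ, t • w = w) →
      π (∑ q : D ⧸ T, q.out • w) ∈ K π hπ (⊤ : Subgroup Γ) := fun {w} hw =>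
    mem_K_top_of_stabilizer π hπ hP _ fun d hd =>
      smul_sum_out T w (fun h hh => hw _ hh) (⟨d, hd⟩ : D)
  have hu' : ∀ t ∈ P.inertia Γ, t • (u : B) = u := fun t ht => u.2 ⟨t, ht⟩
  have hs := hfixT hu'
  have hys := hfixT (w := y * u) fun t ht => by rw [smul_mul', hy t ht, hu' t ht]
  have hval : π (∑ q : D ⧸ T, q.out • (y * (u : B))) = π y * π (∑ q : D ⧸ T, q.out • (u : B)) := by
    rw [map_sum, map_sum, Finset.mul_sum]
    refine Finset.sum_congr rfl fun q _ => ?_
    rw [smul_mul', map_mul]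
    exact congrArg (· * _) (hfix _ (q.out).2)
  have hne : π (∑ q : D ⧸ T, q.out • (u : B)) ≠ 0 := by rw [map_sum]; exact hu
  have := mul_mem hys (inv_mem hs)
  rwa [hval, mul_inv_cancel_right₀ hne] at this

include hπ hP in
theorem exists_poly {y : B} (hy : ∀ t ∈ P.inertia Γ, t • y = y) :
    ∃ g : B[X], (∀ (i : ℕ) (γ : Γ), γ • g.coeff i = g.coeff i) ∧ (g.map π).Separable ∧
      (g.map π).eval (π y) = 0 := by
  classical
  let D := MulAction.stabilizer Γ P
  have := Fintype.ofFinite D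
  let O : Finset k := Finset.univ.image fun d : D => π ((d : Γ) • y)
  have hr : ∀ c : O, ∃ d : D, π ((d : Γ) • y) = c := fun c => by
    obtain ⟨d, -, h⟩ := Finset.mem_image.1 c.2
    exact ⟨d, h⟩
  choose r hr using hr
  let Q : B[X] := ∏ c : O, (X - C ((r c : Γ) • y))
  let q : k[X] := ∏ c : O, (X - C (c : k))
  have hQ : Q.map π = q := by
    simp only [Q, q, Polynomial.map_prod, Polynomial.map_sub, map_X, map_C, hr]
  have hQT : ∀ i, ∀ t ∈ P.inertia Γ, t • Q.coeff i = Q.coeff i := fun i t ht => by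
    have : t • Q = Q := by
      simp only [Q, Finset.smul_prod', smul_sub, smul_X, smul_C]
      exact Finset.prod_congr rfl fun c _ => by rw [smul_inertia_fixed (r c).2 hy t ht]
    conv_rhs => rw [← this]
    rw [coeff_smul]
  have hfix : ∀ i, ∀ d ∈ D, π (d • Q.coeff i) = π (Q.coeff i) := fun i d hd => by
    have hmem : ∀ c : O, π (d • (r c : Γ) • y) ∈ O := fun c =>
      Finset.mem_image.2 ⟨⟨d, hd⟩ * r c, Finset.mem_univ _, by rw [smul_smul]; rfl⟩
    let φ : O → O := fun c => ⟨_, hmem c⟩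
    have hφ : Function.Injective φ := fun c c' h => by
      have h' := congrArg Subtype.val h
      change π (d • (r c : Γ) • y) = π (d • (r c' : Γ) • y) at h'
      rw [pi_eq π hP] at h'
      have h2 := Ideal.smul_mem_pointwise_smul d⁻¹ _ _ h'
      rw [MulAction.mem_stabilizer_iff.1 (D.inv_mem hd), smul_sub, inv_smul_smul, inv_smul_smul,
        ← pi_eq π hP, hr, hr] at h2
      exact Subtype.ext h2
    have : (d • Q).map π = q := by
      simp only [Q, Finset.smul_prod', smul_sub, smul_X, smul_C, Polynomial.map_prod,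
        Polynomial.map_sub, map_X, map_C]
      exact Fintype.prod_bijective φ (Finite.injective_iff_bijective.1 hφ) _ _ fun c => rfl
    rw [← coeff_smul, ← coeff_map, this, ← hQ, coeff_map]
  have hK : ∀ i, ∃ v : B, (∀ γ : Γ, γ • v = v) ∧ π v = q.coeff i := fun i => by
    obtain ⟨v, hv, hv'⟩ := (mem_K π hπ).1 (mem_K_top_of_fixed π hπ hP (hQT i) (hfix i))
    exact ⟨v, fun γ => hv γ trivial, by rw [hv', ← hQ, coeff_map]⟩
  choose v hv hv' using hK
  refine ⟨∑ i ∈ Finset.range (q.natDegree + 1), monomial i (v i), fun i γ => ?_, ?_⟩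
  · rw [finsetSum_coeff, Finset.smul_sum]
    exact Finset.sum_congr rfl fun j _ => by rw [coeff_monomial]; split_ifs <;> simp [hv]
  have hmap : (∑ i ∈ Finset.range (q.natDegree + 1), monomial i (v i)).map π = q := by
    rw [Polynomial.map_sum]
    conv_rhs => rw [q.as_sum_range]
    exact Finset.sum_congr rfl fun j _ => by rw [map_monomial, hv']
  rw [hmap]
  refine ⟨(separable_prod_X_sub_C_iff).2 Subtype.val_injective, ?_⟩
  rw [eval_prod]
  refine Finset.prod_eq_zero (Finset.mem_univ ⟨π y, Finset.mem_image.2 ⟨1, Finset.mem_univ _, by simp⟩⟩) ?_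
  simp

include hπ hP in
theorem mem_of_separable {x : B} (g : B[X]) (hg : ∀ (i : ℕ) (γ : Γ), γ • g.coeff i = g.coeff i)
    (hsep : (g.map π).Separable) (hx : (g.map π).eval (π x) = 0) :
    π x ∈ K π hπ (P.inertia Γ) := by
  classical
  let L := K π hπ (P.inertia Γ)
  have hcoef : ∀ i, (g.map π).coeff i ∈ L := fun i => by
    rw [coeff_map]; exact (mem_K π hπ).2 ⟨_, fun t _ => hg i t, rfl⟩
  obtain ⟨g', hg'⟩ : ∃ g' : L[X], g'.map L.subtype = g.map π := by
    refine (mem_lifts _).1 ((lifts_iff_coeff_lifts _).2 fun i => ⟨⟨_, hcoef i⟩, rfl⟩)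
  have hs : IsSeparable L (π x) := by
    have hsep' : g'.Separable := (separable_map (f := L.subtype)).1 (hg' ▸ hsep)
    refine hsep'.of_dvd (minpoly.dvd L (π x) ?_)
    rw [← eval_map_algebraMap, show algebraMap L k = L.subtype from rfl, hg', hx]
  obtain ⟨q, _⟩ := ExpChar.exists k
  have : ExpChar L q := (L.subtype.expChar_iff L.subtype.injective q).2 ‹_›
  obtain ⟨a, ha⟩ := exists_pow_mem π hπ hP (Γ := Γ) q
  have h1 := IntermediateField.adjoin_simple_eq_adjoin_pow_expChar_pow_of_isSeparable L k hs q a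
  have h2 : IntermediateField.adjoin L ({π x ^ q ^ a} : Set k) = ⊥ :=
    IntermediateField.adjoin_simple_eq_bot_iff.2 (IntermediateField.mem_bot.2 ⟨⟨_, ha x⟩, rfl⟩)
  have h3 := IntermediateField.mem_adjoin_simple_self L (π x)
  rw [h1, h2, IntermediateField.mem_bot] at h3
  obtain ⟨c, hc⟩ := h3
  exact hc ▸ c.2

end InertiaSepLib
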